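import Groth.Agent.H88.EtMod.ExtColim
import Groth.Agent.H88.EtMod.ConstNormal
import Groth.Agent.H88.EtMod.DimZero
import Groth.Agent.H61.FieldCoh.PushInt
import Groth.Agent.Lib.EtJ.OpenZero
import Groth.Agent.Lib.EtRad.Push
import Groth.Agent.S0654

/-!
# Constant sheaves extended by zero from the complement of finitely many rational points
-/

set_option autoImplicit false
set_option linter.style.haveILetI false

universe u

open CategoryTheory CategoryTheory.Limits AlgebraicGeometry Opposite Abelian

noncomputable section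

namespace Groth.Agent.H61.Punctured

open Groth.Agent.Lib Groth.Agent.Lib.EtSite Groth.Agent.Lib.EtSite.Basic
open Groth.Agent.H88.EtMod

variable {k : Type u} [Field k] [IsAlgClosed k] {X : Scheme.{u}} (M : Type) [AddCommGroup M]

abbrev pt (k : Type u) [Field k] : Scheme.{u} := Spec (CommRingCat.of k)

/-- Sections of a constant sheaf on an irreducible scheme are constant. -/
theorem bijective_sec [IrreducibleSpace X] :
    Function.Bijective (ConstNormal.sec (X := X) M (EtCoh.top X)) := by
  constructor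
  · intro a b h
    obtain ⟨p, -⟩ := exists_fiber_geomPoint (EtCoh.top X) (genericPoint ↥X)
    exact (ConstNormal.bijective_germ_sec M _ p).1 (congrArg (ConstNormal.germ _ _ _ p) h)
  · intro s
    have hv : ∀ t : (EtCoh.top X).left, ∃ (O : Set (EtCoh.top X).left) (m : ULift.{u + 1} M),
        IsOpen O ∧ t ∈ O ∧ ∀ (Ω : Type u) [Field Ω] [IsSepClosed Ω] (η : Spec (CommRingCat.of Ω) ⟶ X)
        (p : (Scheme.pointSmallEtale η).fiber.obj (EtCoh.top X)), fiberPt p ∈ O →
        ConstNormal.germ _ _ η p s = ConstNormal.germ _ _ η p (ConstNormal.sec M (EtCoh.top X) m) := by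
      intro t
      obtain ⟨p, hp⟩ := exists_fiber_geomPoint (EtCoh.top X) t
      obtain ⟨m, hm⟩ := (ConstNormal.bijective_germ_sec M _ p).2 (ConstNormal.germ _ _ _ p s)
      obtain ⟨W, a, q, hq, he⟩ := ((Scheme.pointSmallEtale _).toPresheafFiber_eq_iff'
        (P := (EtCoh.const X M).obj) _ p _ _).1 hm
      refine ⟨Set.range a.left.base, m, (Lib.EtJ.Supp.isOpenMap_left a).isOpen_range,
        ⟨fiberPt q, (fiberPt_map a q).symm.trans ((congrArg fiberPt hq).trans hp)⟩, fun Ω _ _ η r ⟨w, hw⟩ => ?_⟩
      obtain ⟨r', hr', -⟩ := Fiber.exists_fiber_map η a r w hw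
      rw [← hr']
      exact (GrothendieckTopology.Point.toPresheafFiber_w_apply _ a r' _ s).symm.trans
        ((congrArg _ he.symm).trans (GrothendieckTopology.Point.toPresheafFiber_w_apply _ a r' _ _))
    haveI : IrreducibleSpace ↥(EtCoh.top X).left := inferInstanceAs (IrreducibleSpace ↥X)
    choose O f hO htO hf using hv
    have hall : ∀ t t', f t = f t' := fun t t' => by
      obtain ⟨z, hz, hz'⟩ := nonempty_preirreducible_inter (hO t) (hO t') ⟨t, htO t⟩ ⟨t', htO t'⟩
      obtain ⟨p, hp⟩ := exists_fiber_geomPoint (EtCoh.top X) z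
      exact (ConstNormal.bijective_germ_sec M _ p).1
        ((hf t _ _ p (hp.symm ▸ hz)).symm.trans (hf t' _ _ p (hp.symm ▸ hz')))
    refine ⟨f (genericPoint ↥X), (Stalk.sections_ext_of_germ _ _ _ (Stalk.enoughPts_pt fun x q => ?_))⟩
    rw [hall (genericPoint ↥X) (fiberPt q)]
    exact (hf (fiberPt q) _ _ q (htO _)).symm

variable (p : pt k ⟶ X) [IsClosedImmersion p]

/-- The skyscraper at a point. -/
abbrev sky : EtCoh.Ab X := (EtCoh.push p).obj ((EtCoh.pull p).obj (EtCoh.const X M))

omit [IsClosedImmersion p] in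
/-- Its sections are the constants. -/
theorem bijective_secPull : Function.Bijective (ConstNormal.secPull M p (EtCoh.top X)) := by
  haveI : IsIso (pullback.snd (EtCoh.top X).hom p) := inferInstanceAs (IsIso (pullback.snd (𝟙 X) p))
  haveI : Subsingleton ↥((EtCoh.bc p).obj (EtCoh.top X)).left :=
    (asIso (pullback.snd (EtCoh.top X).hom p)).hom.homeomorph.injective.subsingleton
  let t : ((EtCoh.bc p).obj (EtCoh.top X)).left := (inv (pullback.snd (EtCoh.top X).hom p)).base default
  obtain ⟨q, hq⟩ := exists_fiber_geomPoint ((EtCoh.bc p).obj (EtCoh.top X)) t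
  constructor
  · intro a b h
    exact (ConstNormal.bijective_germ_secPull M p _ q).1 (congrArg (ConstNormal.germ _ _ _ q) h)
  · intro s
    obtain ⟨O, m, -, htO, hm⟩ := ConstNormal.exists_value M p s t
    refine ⟨m, (Stalk.sections_ext_of_germ _ _ _ (Stalk.enoughPts_pt fun x r => ?_))⟩
    exact (hm _ _ r (Subsingleton.elim t (fiberPt r) ▸ htO)).symm

variable {r : ℕ} (P : Fin r → (pt k ⟶ X)) [∀ i, IsClosedImmersion (P i)]

/-- All the skyscrapers. -/
abbrev sum : EtCoh.Ab X := ⨁ fun i => sky M (P i)

/-- The restriction to the points. -/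
abbrev res : EtCoh.const X M ⟶ sum M P :=
  biproduct.lift fun i => (EtCoh.pullPushAdj (P i)).unit.app (EtCoh.const X M)

variable {U : Scheme.{u}} (j : U ⟶ X) [IsOpenImmersion j] [EtShriek.JCont j] [Etale j]

theorem shortExact (hP : Function.Injective fun i => (P i).base default)
    (hj : ∀ x : X, x ∈ Set.range j.base ↔ ∀ i, x ≠ (P i).base default) :
    ∃ w : (EtShriek.extZeroAdj j).counit.app (EtCoh.const X M) ≫ res M P = 0,
      (ShortComplex.mk _ _ w).ShortExact := by
  have hrange : ∀ i, Set.range (P i).base = {(P i).base default} := fun i => by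
    ext x
    refine ⟨?_, fun h => ⟨default, h.symm⟩⟩
    rintro ⟨y, rfl⟩
    rw [Subsingleton.elim y default]
    rfl
  have hz : ∀ i (x : X), x ≠ (P i).base default →
      IsZero ((EtCoh.stalk (geomPoint X x)).obj (sky M (P i))) := fun i x hx =>
    EtRad.Push.isZero_stalk_push (P i) _ _ (by rwa [geomPoint_apply, hrange i, Set.mem_singleton_iff])
  have hU : ∀ x ∈ Set.range j.base, IsZero ((EtCoh.stalk (geomPoint X x)).obj (sum M P)) := by
    intro x hx
    let S := EtCoh.stalk (geomPoint X x)
    haveI : PreservesFiniteColimits S := inferInstance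
    haveI : S.Additive := Functor.additive_of_preserves_binary_products S
    rw [IsZero.iff_id_eq_zero, ← CategoryTheory.Functor.map_id, ← biproduct.total, Functor.map_sum]
    refine Finset.sum_eq_zero fun i _ => ?_
    have h0 := (hz i x ((hj x).1 hx i)).eq_of_tgt
      ((EtCoh.stalk (geomPoint X x)).map (biproduct.π (fun i => sky M (P i)) i)) 0
    rw [Functor.map_comp, h0, zero_comp]
  have hiso : ∀ i, IsIso ((EtCoh.stalk (geomPoint X ((P i).base default))).map (res M P)) := by
    intro i
    let x := (P i).base default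
    let η := geomPoint X x
    let S := EtCoh.stalk η
    haveI : S.Additive := Functor.additive_of_preserves_binary_products S
    obtain ⟨a, -, -⟩ := Scheme.Pullback.exists_preimage_pullback (f := P i) (g := η) default default
      (geomPoint_apply _ _).symm
    have : IsClosedImmersion (pullback.snd (P i) η) := inferInstance
    have : Surjective (pullback.snd (P i) η) := ⟨fun b => ⟨a, Subsingleton.elim _ _⟩⟩
    have := isIso_of_isClosedImmersion_of_surjective (pullback.snd (P i) η)
    obtain ⟨ζ, hζ⟩ : ∃ ζ, ζ ≫ P i = η :=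
      ⟨inv (pullback.snd (P i) η) ≫ pullback.fst (P i) η, by
        rw [Category.assoc, pullback.condition, IsIso.inv_hom_id_assoc]⟩
    haveI hu : IsIso (S.map ((EtCoh.pullPushAdj (P i)).unit.app (EtCoh.const X M))) := by
      change IsIso ((EtCoh.stalk η).map _)
      rw [← hζ]
      have h₁ : IsIso (UnitStalk.unitStalk (P i) ζ AddCommGrpCat.{u + 1} (EtCoh.const X M)) :=
        UnitStalk.isIso_unitStalk (P i) ζ AddCommGrpCat.{u + 1} _
      have h₂ : IsIso ((PushStalk.germTo (P i) AddCommGrpCat.{u + 1} (rfl : ζ ≫ P i = ζ ≫ P i)).app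
          ((EtCoh.pull (P i)).obj (EtCoh.const X M))) :=
        (ConcreteCategory.isIso_iff_bijective _).2
          (Immersion.germTo_bijective_of_isClosedImmersion (P i) rfl _)
      have : IsIso ((Scheme.pointSmallEtale (ζ ≫ P i)).sheafFiber.map
        ((EtCoh.pullPushAdj (P i)).unit.app (EtCoh.const X M)) ≫ _) := h₁
      exact IsIso.of_isIso_comp_right _ ((PushStalk.germTo (P i) AddCommGrpCat.{u + 1}
        (rfl : ζ ≫ P i = ζ ≫ P i)).app _)
    haveI : IsIso (S.map (biproduct.π (fun i => sky M (P i)) i)) := by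
      refine ⟨S.map (biproduct.ι (fun i => sky M (P i)) i), ?_, ?_⟩
      · rw [← CategoryTheory.Functor.map_id, ← biproduct.total, Functor.map_sum,
          Finset.sum_eq_single i (fun l _ hl => ?_) (fun h => absurd (Finset.mem_univ i) h),
          Functor.map_comp]
        rw [Functor.map_comp, (hz l x (fun e => hl (hP e).symm)).eq_of_tgt (S.map (biproduct.π (fun i => sky M (P i)) l)) 0,
          zero_comp]
      · rw [← Functor.map_comp, biproduct.ι_π_self, CategoryTheory.Functor.map_id]
    haveI : IsIso (S.map (res M P) ≫ S.map (biproduct.π (fun i => sky M (P i)) i)) := by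
      rw [← Functor.map_comp, biproduct.lift_π]
      exact hu
    exact IsIso.of_isIso_comp_right (S.map (res M P)) (S.map (biproduct.π (fun i => sky M (P i)) i))
  have hor : ∀ x : X, x ∈ Set.range j.base ∨ ∃ i, (P i).base default = x := fun x => by
    by_cases h : ∀ i, x ≠ (P i).base default
    · exact Or.inl ((hj x).2 h)
    · push Not at h
      obtain ⟨i, hi⟩ := h
      exact Or.inr ⟨i, hi.symm⟩
  have hout : ∀ i, (P i).base default ∉ Set.range j.base := fun i h => (hj _).1 h i rfl
  let f := (EtShriek.extZeroAdj j).counit.app (EtCoh.const X M)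
  have w : f ≫ res M P = 0 := by
    refine Sheaf.hom_ext ?_
    ext V s
    induction V using Opposite.rec with
    | op V =>
    refine Stalk.sections_ext_of_germ _ _ _ (Stalk.enoughPts_pt fun x q => ?_)
    rcases hor x with hx | ⟨i, rfl⟩
    · exact @Subsingleton.elim _ (AddCommGrpCat.subsingleton_of_isZero (hU x hx)) _ _
    · let S := EtCoh.stalk (geomPoint X ((P i).base default))
      haveI : S.Additive := Functor.additive_of_preserves_binary_products S
      have h0 : S.map (f ≫ res M P) = 0 := by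
        rw [Functor.map_comp, (EtJ.OpenZero.isZero_stalk j _ (by rw [geomPoint_apply]; exact hout i) _).eq_of_src
          (S.map f) 0, zero_comp]
      refine ((Scheme.pointSmallEtale _).toPresheafFiber_naturality_apply (f ≫ res M P).hom V q s).symm.trans ?_
      refine Eq.trans ?_ (map_zero _).symm
      exact ConcreteCategory.congr_hom h0 _
  refine ⟨w, ?_⟩
  let T := ShortComplex.mk _ _ w
  refine { exact := ?_, mono_f := ?_, epi_g := ?_ }
  · rw [T.exact_iff_isZero_homology]
    refine Groth.Agent.S0654.isZero_of_stalks _ fun x => ?_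
    let S := EtCoh.stalk (geomPoint X x)
    haveI : PreservesFiniteLimits S := inferInstance
    haveI : PreservesFiniteColimits S := inferInstance
    haveI : S.Additive := Functor.additive_of_preserves_binary_products S
    refine IsZero.of_iso ?_ (T.mapHomologyIso S).symm
    rw [← ShortComplex.exact_iff_isZero_homology]
    rcases hor x with hx | ⟨i, rfl⟩
    · have h₁ := EtJ.OpenZero.isIso_stalk_counit j (geomPoint X x) (by rwa [geomPoint_apply]) (EtCoh.const X M)
      exact ((T.map S).exact_iff_epi ((hU x hx).eq_of_tgt _ _)).2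
        (inferInstanceAs (Epi (S.map f)))
    · have h₁ := EtJ.OpenZero.isZero_stalk j (geomPoint X ((P i).base default))
        (by rw [geomPoint_apply]; exact hout i) ((EtShriek.restrAlong j).obj (EtCoh.const X M))
      haveI := hiso i
      exact ((T.map S).exact_iff_mono (h₁.eq_of_src _ _)).2 (inferInstanceAs (Mono (S.map (res M P))))
  · refine Stalk.mono_of_stalks T.f (Stalk.enoughPts_pt fun x => ?_)
    rcases hor x with hx | ⟨i, rfl⟩
    · exact ((ConcreteCategory.isIso_iff_bijective _).1
        (EtJ.OpenZero.isIso_stalk_counit j (geomPoint X x) (by rwa [geomPoint_apply]) (EtCoh.const X M))).1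
    · intro a b _
      exact @Subsingleton.elim _ (AddCommGrpCat.subsingleton_of_isZero (EtJ.OpenZero.isZero_stalk j
        (geomPoint X ((P i).base default)) (by rw [geomPoint_apply]; exact hout i) _)) a b
  · refine Stalk.epi_of_stalks T.g (Stalk.enoughPts_pt fun x => ?_)
    rcases hor x with hx | ⟨i, rfl⟩
    · intro b
      exact ⟨0, @Subsingleton.elim _ (AddCommGrpCat.subsingleton_of_isZero (hU x hx)) _ _⟩
    · exact ((ConcreteCategory.isIso_iff_bijective _).1 (hiso i)).2

/-- The cohomology of `j_! M`. -/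
theorem cohomology [IrreducibleSpace X] [CompactSpace X] {r : ℕ} (P : Fin (r + 1) → (pt k ⟶ X))
    [∀ i, IsClosedImmersion (P i)] (hP : Function.Injective fun i => (P i).base default)
    (hj : ∀ x : X, x ∈ Set.range j.base ↔ ∀ i, x ≠ (P i).base default)
    (hc : ∀ q, 0 < q → Subsingleton (EtCoh.H X (EtCoh.const X M) q)) :
    (∀ s : ℕ, s ≠ 1 → Subsingleton (EtCoh.H X
      ((EtShriek.extZero j).obj ((EtShriek.restrAlong j).obj (EtCoh.const X M))) s)) ∧
    Nonempty (EtCoh.H X ((EtShriek.extZero j).obj ((EtShriek.restrAlong j).obj (EtCoh.const X M))) 1 ≃+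
      (Fin r → ULift.{u + 1} M)) := by
  obtain ⟨w, hT⟩ := shortExact M P j hP hj
  let T := ShortComplex.mk _ _ w
  let A := EtCoh.const X ℤ
  have hsky : ∀ i q, 0 < q → Subsingleton (EtCoh.H X (sky M (P i)) q) := fun i q hq => by
    obtain ⟨e⟩ := FieldCoh.PushInt.nonempty_Hequiv (P i) ((EtCoh.pull (P i)).obj (EtCoh.const X M)) q
    haveI := DimZero.subsingleton_H_field k k ((EtCoh.pull (P i)).obj (EtCoh.const X M)) q hq
    exact e.toEquiv.subsingleton
  have hsum : ∀ q, 0 < q → Subsingleton (EtCoh.H X (sum M P) q) := fun q hq => by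
    refine subsingleton_of_forall_eq 0 fun e => ?_
    rw [← e.comp_mk₀_id, ← biproduct.total, Ext.mk₀_sum, Ext.comp_sum]
    refine Finset.sum_eq_zero fun i _ => ?_
    rw [← Ext.mk₀_comp_mk₀, ← Ext.comp_assoc_of_second_deg_zero,
      show e.comp (Ext.mk₀ (biproduct.π (fun i => sky M (P i)) i)) (add_zero q) = 0 from
        @Subsingleton.elim _ (hsky i q hq) _ _, Ext.zero_comp]
  let σ : ∀ i, ULift.{u + 1} M ≃+ EtCoh.H X (sky M (P i)) 0 := fun i =>
    (AddEquiv.ofBijective (ConstNormal.secPull M (P i) (EtCoh.top X)).hom (bijective_secPull M (P i))).trans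
      (Sheaf.H.equiv₀ (sky M (P i)) CohColim.isTerminalTop).symm
  let Ψ : EtCoh.H X (sum M P) 0 →+ (Fin (r + 1) → ULift.{u + 1} M) :=
    Pi.addMonoidHom fun i => (σ i).symm.toAddMonoidHom.comp
      ((Ext.mk₀ (biproduct.π (fun i => sky M (P i)) i)).postcomp _ (add_zero 0))
  have hΨ : Function.Bijective Ψ := by
    constructor
    · refine (injective_iff_map_eq_zero Ψ).2 fun e he => ?_
      rw [← e.comp_mk₀_id, ← biproduct.total, Ext.mk₀_sum, Ext.comp_sum]
      refine Finset.sum_eq_zero fun i _ => ?_
      rw [← Ext.mk₀_comp_mk₀, ← Ext.comp_assoc_of_second_deg_zero,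
        show e.comp (Ext.mk₀ (biproduct.π (fun i => sky M (P i)) i)) (add_zero 0) = 0 from
          (σ i).symm.injective ((congrFun he i).trans (map_zero _).symm), Ext.zero_comp]
    · intro v
      refine ⟨∑ i, (σ i (v i)).comp (Ext.mk₀ (biproduct.ι (fun i => sky M (P i)) i)) (add_zero 0), ?_⟩
      funext l
      change (σ l).symm ((∑ i, (σ i (v i)).comp (Ext.mk₀ (biproduct.ι (fun i => sky M (P i)) i)) (add_zero 0)).comp
        (Ext.mk₀ (biproduct.π (fun i => sky M (P i)) l)) (add_zero 0)) = v l
      rw [Ext.sum_comp, Finset.sum_eq_single l (fun i _ hi => ?_) (fun h => absurd (Finset.mem_univ l) h)]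
      · rw [Ext.comp_assoc_of_second_deg_zero, Ext.mk₀_comp_mk₀, biproduct.ι_π_self, Ext.comp_mk₀_id,
          AddEquiv.symm_apply_apply]
      · rw [Ext.comp_assoc_of_second_deg_zero, Ext.mk₀_comp_mk₀, biproduct.ι_π_ne _ hi, Ext.mk₀_zero,
          Ext.comp_zero]
  let τ : ULift.{u + 1} M ≃+ EtCoh.H X (EtCoh.const X M) 0 :=
    (AddEquiv.ofBijective (ConstNormal.sec (X := X) M (EtCoh.top X)).hom (bijective_sec M)).trans
      (Sheaf.H.equiv₀ (EtCoh.const X M) CohColim.isTerminalTop).symm
  let g := (Ext.mk₀ (res M P)).postcomp A (add_zero 0)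
  have hdiag : ∀ m i, Ψ (g (τ m)) i = m := fun m i => by
    change (σ i).symm (((τ m).comp (Ext.mk₀ (res M P)) (add_zero 0)).comp
      (Ext.mk₀ (biproduct.π (fun i => sky M (P i)) i)) (add_zero 0)) = m
    rw [Ext.comp_assoc_of_second_deg_zero, Ext.mk₀_comp_mk₀, biproduct.lift_π, AddEquiv.symm_apply_eq]
    apply (Sheaf.H.equiv₀ (sky M (P i)) CohColim.isTerminalTop).injective
    refine (Sheaf.H.equiv₀_naturality CohColim.isTerminalTop
      ((EtCoh.pullPushAdj (P i)).unit.app (EtCoh.const X M)) (τ m)).symm.trans ?_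
    exact (congrArg _ (AddEquiv.apply_symm_apply (Sheaf.H.equiv₀ (EtCoh.const X M) CohColim.isTerminalTop) _)).trans
      (AddEquiv.apply_symm_apply _ _).symm
  have hg : Function.Injective g := by
    intro a b hab
    obtain ⟨a, rfl⟩ := τ.surjective a
    obtain ⟨b, rfl⟩ := τ.surjective b
    exact congrArg τ ((hdiag a 0).symm.trans ((congrFun (congrArg Ψ hab) 0).trans (hdiag b 0)))
  refine ⟨fun s hs => ?_, ?_⟩
  · refine subsingleton_of_forall_eq 0 fun e => ?_
    match s, hs with
    | 0, _ =>
      haveI := hT.mono_f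
      have hf : e.comp (Ext.mk₀ T.f) (add_zero 0) = 0 := by
        refine hg ?_
        rw [map_zero]
        change (e.comp (Ext.mk₀ T.f) (add_zero 0)).comp (Ext.mk₀ T.g) (add_zero 0) = 0
        rw [Ext.comp_assoc_of_second_deg_zero, Ext.mk₀_comp_mk₀, T.zero, Ext.mk₀_zero, Ext.comp_zero]
      obtain ⟨a, rfl⟩ := Ext.homEquiv₀.symm.surjective e
      rw [Ext.homEquiv₀_symm_apply, Ext.mk₀_comp_mk₀, Ext.mk₀_eq_zero_iff] at hf
      rw [Ext.homEquiv₀_symm_apply, Ext.mk₀_eq_zero_iff]
      exact (cancel_mono T.f).1 (hf.trans zero_comp.symm)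
    | s + 2, _ =>
      obtain ⟨y, rfl⟩ := Ext.covariant_sequence_exact₁ _ hT e (@Subsingleton.elim _ (hc (s + 2) (by omega)) _ _)
        (n₀ := s + 1) rfl
      rw [show y = 0 from @Subsingleton.elim _ (hsum (s + 1) (by omega)) _ _]
      exact Ext.zero_comp _ _ _ _ _
  · let δ : EtCoh.H X (sum M P) 0 →+ EtCoh.H X T.X₁ 1 := hT.extClass.postcomp A (zero_add 1)
    let D : (Fin (r + 1) → ULift.{u + 1} M) →+ (Fin r → ULift.{u + 1} M) :=
      Pi.addMonoidHom fun l => Pi.evalAddMonoidHom (fun _ => ULift.{u + 1} M) l.succ -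
        Pi.evalAddMonoidHom (fun _ => ULift.{u + 1} M) 0
    have hδ : Function.Surjective δ := fun x =>
      Ext.covariant_sequence_exact₁ _ hT x (@Subsingleton.elim _ (hc 1 one_pos) _ _) (n₀ := 0) rfl
    let F : EtCoh.H X (sum M P) 0 →+ (Fin r → ULift.{u + 1} M) := D.comp Ψ
    have hF : Function.Surjective F := fun v => by
      obtain ⟨e, he⟩ := hΨ.2 (Fin.cons 0 v)
      refine ⟨e, funext fun l => ?_⟩
      change Ψ e l.succ - Ψ e 0 = v l
      rw [he, Fin.cons_succ, Fin.cons_zero, sub_zero]
    have hker : δ.ker = F.ker := by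
      ext e
      constructor
      · intro he
        obtain ⟨y, rfl⟩ := Ext.covariant_sequence_exact₃ _ hT e (zero_add 1) he
        obtain ⟨m, rfl⟩ := τ.surjective y
        refine funext fun l => ?_
        change Ψ (g (τ m)) l.succ - Ψ (g (τ m)) 0 = 0
        rw [hdiag, hdiag, sub_self]
      · intro he
        have hc' : ∀ l, Ψ e l = Ψ e 0 := fun l => by
          refine Fin.cases rfl (fun l => ?_) l
          exact sub_eq_zero.1 (congrFun he l)
        have : e = g (τ (Ψ e 0)) := hΨ.1 (funext fun l => (hc' l).trans (hdiag _ l).symm)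
        rw [this]
        change ((τ (Ψ e 0)).comp (Ext.mk₀ T.g) (add_zero 0)).comp hT.extClass (zero_add 1) = 0
        rw [Ext.comp_assoc_of_second_deg_zero, hT.comp_extClass, Ext.comp_zero]
    exact ⟨(QuotientAddGroup.quotientKerEquivOfSurjective δ hδ).symm.trans
      ((QuotientAddGroup.quotientAddEquivOfEq hker).trans (QuotientAddGroup.quotientKerEquivOfSurjective F hF))⟩

end Groth.Agent.H61.Punctured
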